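import Groth.Agent.AVTheta8.Vanish
import Groth.Agent.AVDegPoly.Pullback

/-!
Direct images along affine maps commute with flat base change; direct images to a field are free.
-/

set_option autoImplicit false
set_option linter.style.haveILetI false
set_option linter.unusedSectionVars false
set_option backward.isDefEq.respectTransparency false
set_option backward.isDefEq.respectTransparency.types false
set_option maxHeartbeats 1000000

universe u

open CategoryTheory CategoryTheory.Limits AlgebraicGeometry TopologicalSpace

noncomputable section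

namespace Groth.Agent.AVEuler

open Groth.Agent Groth.Agent.H23

theorem nonempty_pullback_push {X S S' X' : Scheme.{u}} (f : X ⟶ S) (g : S' ⟶ S) (f' : X' ⟶ S') (g' : X' ⟶ X)
    [QuasiCompact f] [QuasiSeparated f] [Flat g] [Flat g'] (h : IsPullback g' f' f g) {M : X.Modules}
    (hM : Coh.IsQCoh M) :
    Nonempty ((Scheme.Modules.pullback g).obj ((Coh.push f).obj M) ≅
      (Coh.push f').obj ((Scheme.Modules.pullback g').obj M)) := by
  haveI : HasInjectiveResolutions X.Modules := KFlatLib.hasInjectiveResolutions_modules
  haveI : HasInjectiveResolutions X'.Modules := KFlatLib.hasInjectiveResolutions_modules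
  haveI : PreservesFiniteLimits (Scheme.Modules.pullback g') := RGLib.Lim8.preservesFiniteLimits_pullback g'
  haveI := QCoh.preservesFiniteLimits_push f
  haveI := QCoh.preservesFiniteLimits_push f'
  haveI := FlatBC6.isIso_bcQ_flat h hM 0
  exact ⟨(Scheme.Modules.pullback g).mapIso ((Scheme.Modules.pushforward f).rightDerivedZeroIsoSelf.app M).symm ≪≫
    asIso (CohBC.bcQ f g f' g' h.w 0 M) ≪≫ (Scheme.Modules.pushforward f').rightDerivedZeroIsoSelf.app _⟩

/-- The pullback of a direct image to a point is free. -/
theorem exists_pullback_push_free {k : Type u} [Field k] {K : Scheme.{u}}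
    (q : K ⟶ Spec (CommRingCat.of k)) [IsProper q] [Flat q] :
    ∃ n : ℕ, ∀ {W : Scheme.{u}} (w : W ⟶ Spec (CommRingCat.of k)), Nonempty ((Scheme.Modules.pullback w).obj ((Coh.push q).obj (Coh.structureModule K)) ≅
      FlatMod.freeMod W n) := by
  haveI : HasInjectiveResolutions K.Modules := KFlatLib.hasInjectiveResolutions_modules
  haveI : LocallyOfFinitePresentation q := inferInstance
  haveI := QCoh.preservesFiniteLimits_push q
  obtain ⟨U, n, hU, ⟨φ⟩⟩ := AVTheta8.isFinLocFree_Rpush_field q (InvX.isInvertible_structureModule (X := K)) 0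
    (IsLocalRing.closedPoint k)
  have hU' : U = ⊤ := top_le_iff.1 fun z _ => by
    haveI : Subsingleton ↥(Spec (CommRingCat.of k)) := inferInstanceAs (Subsingleton (PrimeSpectrum k))
    rwa [Subsingleton.elim z (IsLocalRing.closedPoint k)]
  subst hU'
  obtain ⟨ε⟩ := AVTheta8.subsingleton_sections_of_finLocFree.exists_global φ
  haveI : HasFiniteBiproducts (Spec (CommRingCat.of k)).Modules := HasFiniteBiproducts.of_hasFiniteProducts
  refine ⟨n, fun w => ?_⟩
  haveI := (Scheme.Modules.pullbackPushforwardAdjunction w).leftAdjoint_preservesColimits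
  obtain ⟨o⟩ := PicClLib.nonempty_pullback_structureModule w
  exact ⟨(Scheme.Modules.pullback w).mapIso
    ((((Scheme.Modules.pushforward q).rightDerivedZeroIsoSelf.app _).symm) ≪≫ ε ≪≫ biproduct.isoCoproduct _) ≪≫
    PreservesCoproduct.iso (Scheme.Modules.pullback w) _ ≪≫ Sigma.mapIso fun _ => o⟩

end Groth.Agent.AVEuler
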