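import Groth.Agent.AVEuler.Devis
import Groth.Agent.AVEuler.BaseChange
import Groth.Agent.Lib.AVProj

/-!
Euler characteristics are multiplied by the degree under finite flat maps of abelian varieties.
-/

set_option autoImplicit false
set_option linter.style.haveILetI false
set_option linter.unusedSectionVars false
set_option backward.isDefEq.respectTransparency false
set_option backward.isDefEq.respectTransparency.types false
set_option maxHeartbeats 2000000

universe u

open CategoryTheory CategoryTheory.Limits MonoidalCategory CartesianMonoidalCategory MonObj AlgebraicGeometry TopologicalSpace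

noncomputable section

namespace Groth.Agent.AVEuler

open Groth.Agent Groth.Agent.H23
open scoped Groth.Agent.H23.PicMul

variable {k : Type u} [Field k] {X Y : Over (Spec (CommRingCat.of k))} [GrpObj X] [GrpObj Y]

/-- The kernel identifies the fibre products with products. -/
theorem isPullback_shear (f : X ⟶ Y) [IsMonHom f] {K : Over (Spec (CommRingCat.of k))} (i : K ⟶ X)
    (hk : IsPullback i (toUnit K) f η[Y]) {W : Over (Spec (CommRingCat.of k))} (a : W ⟶ X) :
    IsPullback (fst W K) ((fst W K ≫ a) * (snd W K ≫ i)) (a ≫ f) f := by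
  have hi : i ≫ f = 1 := hk.w
  have w : fst W K ≫ a ≫ f = ((fst W K ≫ a) * (snd W K ≫ i)) ≫ f := by
    rw [MonObj.mul_comp, Category.assoc, Category.assoc, hi, MonObj.comp_one, _root_.mul_one]
  let m := fun (s : PullbackCone (a ≫ f) f) => (s.fst ≫ a)⁻¹ * s.snd
  have hm : ∀ s : PullbackCone (a ≫ f) f, m s ≫ f = toUnit _ ≫ η[Y] := fun s => by
    show ((s.fst ≫ a)⁻¹ * s.snd) ≫ f = 1
    rw [MonObj.mul_comp, GrpObj.inv_comp, Category.assoc, s.condition, inv_mul_cancel]
  refine ⟨⟨w⟩, ⟨PullbackCone.IsLimit.mk w (fun s => lift s.fst (hk.lift (m s) (toUnit _) (hm s)))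
    (fun s => lift_fst _ _) (fun s => ?_) fun s t h1 h2 => ?_⟩⟩
  · rw [MonObj.comp_mul, lift_fst_assoc, lift_snd_assoc, hk.lift_fst, mul_inv_cancel_left]
  · refine CartesianMonoidalCategory.hom_ext _ _ ?_ ?_
    · rw [lift_fst]
      exact h1
    · refine hk.hom_ext ?_ (toUnit_unique _ _)
      rw [lift_snd, hk.lift_fst]
      show _ = (s.fst ≫ a)⁻¹ * s.snd
      rw [← h2, MonObj.comp_mul, ← h1, Category.assoc, Category.assoc, inv_mul_cancel_left]

variable [IsProper X.hom] [GeometricallyIntegral X.hom] [IsProper Y.hom] [GeometricallyIntegral Y.hom]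

/-- Euler characteristics of pullbacks along an isogeny are proportional. -/
theorem exists_euler_pullback (f : X ⟶ Y) [IsMonHom f] [IsFinite f.left] [Flat f.left] [Surjective f.left] :
    ∃ n : ℕ, ∀ F : Y.left.Modules, Coh.IsCoh F →
      @Curv2.euler k _ X.left ⟨X.hom⟩ ((Scheme.Modules.pullback f.left).obj F) =
        (n : ℤ) * @Curv2.euler k _ Y.left ⟨Y.hom⟩ F := by
  letI : X.left.Over (Spec (CommRingCat.of k)) := ⟨X.hom⟩
  letI : Y.left.Over (Spec (CommRingCat.of k)) := ⟨Y.hom⟩
  haveI : IsProper (X.left ↘ Spec (CommRingCat.of k)) := ‹IsProper X.hom›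
  haveI : IsProper (Y.left ↘ Spec (CommRingCat.of k)) := ‹IsProper Y.hom›
  haveI := CurveCohLib.isNoetherian_of_proper (k := k) (X := X.left)
  haveI := CurveCohLib.isNoetherian_of_proper (k := k) (X := Y.left)
  haveI : IsSeparated Y.hom := inferInstance
  obtain ⟨K, _, i, _, hic, -, hk⟩ := GrpSchLib.exists_kernel f
  have hk' : IsPullback i (toUnit K) f η[Y] := hk
  have sqK : IsPullback i.left (toUnit K).left f.left η[Y].left := hk'.map (Over.forget _)
  haveI : IsFinite K.hom := by
    rw [show K.hom = (toUnit K).left from (Over.toUnit_left).symm]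
    exact MorphismProperty.of_isPullback (P := @IsFinite) sqK inferInstance
  haveI : Flat K.hom := by
    rw [show K.hom = (toUnit K).left from (Over.toUnit_left).symm]
    exact MorphismProperty.of_isPullback (P := @Flat) sqK inferInstance
  obtain ⟨n, hK⟩ := exists_pullback_push_free K.hom
  refine ⟨n, ?_⟩
  haveI : PreservesFiniteLimits (Scheme.Modules.pullback f.left) := RGLib.Lim8.preservesFiniteLimits_pullback f.left
  haveI := (Scheme.Modules.pullbackPushforwardAdjunction f.left).leftAdjoint_preservesColimits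
  haveI : IsIntegral Y.left := GeometricallyIntegral.isIntegral_of_subsingleton Y.hom
  haveI : IsIntegral X.left := GeometricallyIntegral.isIntegral_of_subsingleton X.hom
  let φ : Y.left.Modules → ℤ := fun M =>
    Curv2.euler k X.left ((Scheme.Modules.pullback f.left).obj M) - (n : ℤ) * Curv2.euler k Y.left M
  suffices h : ∀ F, Coh.IsCoh F → φ F = 0 from fun F hF => sub_eq_zero.1 (h F hF)
  obtain ⟨d, hd⟩ : ∃ d : ℕ, topologicalKrullDim Y.left = d :=
    ⟨_, VarDim.topologicalKrullDim_eq_deg_genericPoint Y.hom⟩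
  intro F hF
  refine eq_zero_of_dominated φ (fun e => ?_) (fun S hS h1 h2 h3 => ?_) (fun M hM => ?_) (fun ξ => ?_) hF (d := d + 1)
    (lt_of_le_of_lt ((topologicalKrullDim_subspace_le Y.left _).trans hd.le) (by exact_mod_cast Nat.lt_succ_self d))
  · exact congrArg₂ (fun p q : ℤ => p - (n : ℤ) * q)
      (CurveCohLib.euler_congr (k := k) ((Scheme.Modules.pullback f.left).mapIso e))
      (CurveCohLib.euler_congr (k := k) e)
  · have hS' := hS.map_of_exact (Scheme.Modules.pullback f.left)
    have e' : Curv2.euler k X.left ((Scheme.Modules.pullback f.left).obj S.X₂) =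
        Curv2.euler k X.left ((Scheme.Modules.pullback f.left).obj S.X₁) +
          Curv2.euler k X.left ((Scheme.Modules.pullback f.left).obj S.X₃) :=
      CurveCohLib.euler_additive (k := k) (S := S.map (Scheme.Modules.pullback f.left)) hS'
        (ZClosLib.isCoh_pullback f.left h1) (ZClosLib.isCoh_pullback f.left h2) (ZClosLib.isCoh_pullback f.left h3)
    have e'' : Curv2.euler k Y.left S.X₂ = Curv2.euler k Y.left S.X₁ + Curv2.euler k Y.left S.X₃ :=
      CurveCohLib.euler_additive (k := k) hS h1 h2 h3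
    dsimp only [φ]
    rw [e', e'']
    ring
  · have z1 : Curv2.euler k Y.left M = 0 := Groth.Agent.CurveSlope.euler_eq_zero_of_isZero k hM
    have z2 : Curv2.euler k X.left ((Scheme.Modules.pullback f.left).obj M) = 0 :=
      Groth.Agent.CurveSlope.euler_eq_zero_of_isZero k ((Scheme.Modules.pullback f.left).map_isZero hM)
    dsimp only [φ]
    rw [z1, z2]
    ring
  obtain ⟨ξ', hξ'⟩ := f.left.surjective ξ
  let J := Scheme.IdealSheafData.vanishingIdeal (Closeds.closure {ξ'})
  haveI : IsIntegral J.subscheme := QCoh.isIntegral_closure_point ξ'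
  have hgen : J.subschemeι (genericPoint J.subscheme) = ξ' := by
    have h := (QCoh.range_eq_closure J.subschemeι).symm.trans (RedSub.range_vanishingIdeal _)
    exact (inseparable_iff_closure_eq.2 h).eq
  let W : Over (Spec (CommRingCat.of k)) := Over.mk (J.subschemeι ≫ X.hom)
  let a : W ⟶ X := Over.homMk J.subschemeι rfl
  let g : W.left ⟶ Y.left := (a ≫ f).left
  haveI hW : IsIntegral W.left := ‹IsIntegral J.subscheme›
  haveI : IsFinite g := inferInstanceAs (IsFinite (J.subschemeι ≫ f.left))
  refine ⟨W.left, hW, g, inferInstance, ?_, ?_⟩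
  · show f.left (J.subschemeι (genericPoint J.subscheme)) = ξ
    rw [hgen, hξ']
  letI : W.left.Over (Spec (CommRingCat.of k)) := ⟨W.hom⟩
  letI : (W ⊗ K).left.Over (Spec (CommRingCat.of k)) := ⟨(W ⊗ K).hom⟩
  haveI : IsProper W.hom := inferInstanceAs (IsProper (J.subschemeι ≫ X.hom))
  haveI : IsProper (W.left ↘ Spec (CommRingCat.of k)) := ‹IsProper W.hom›
  haveI := CurveCohLib.isNoetherian_of_proper (k := k) (X := W.left)
  have sq : IsPullback (fst W K).left ((fst W K ≫ a) * (snd W K ≫ i)).left g f.left :=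
    (isPullback_shear f i hk' a).map (Over.forget _)
  have sqW : IsPullback (snd W K).left (fst W K).left K.hom W.hom :=
    (IsPullback.of_hasPullback W.hom K.hom).flip
  haveI : IsFinite (fst W K).left := MorphismProperty.of_isPullback (P := @IsFinite) sqW inferInstance
  haveI : Flat (fst W K).left := MorphismProperty.of_isPullback (P := @Flat) sqW inferInstance
  haveI : IsFinite ((fst W K ≫ a) * (snd W K ≫ i)).left := MorphismProperty.of_isPullback (P := @IsFinite) sq inferInstance
  haveI : Flat W.hom := inferInstance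
  haveI : Flat (snd W K).left := MorphismProperty.of_isPullback (P := @Flat) sqW.flip inferInstance
  obtain ⟨e1⟩ := nonempty_pullback_push g f.left _ (fst W K).left sq QCoh.isQCoh_structureModule
  obtain ⟨e2⟩ := nonempty_pullback_push K.hom W.hom (fst W K).left (snd W K).left sqW QCoh.isQCoh_structureModule
  obtain ⟨o⟩ := PicClLib.nonempty_pullback_structureModule (fst W K).left
  obtain ⟨o'⟩ := PicClLib.nonempty_pullback_structureModule (snd W K).left
  obtain ⟨e3⟩ := hK W.hom
  show Curv2.euler k X.left _ - (n : ℤ) * Curv2.euler k Y.left _ = 0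
  rw [CurveCohLib.euler_congr (k := k) (e1 ≪≫ (Coh.push _).mapIso o),
    IntNum.euler_push k _ (Over.w _) QCoh.isQCoh_structureModule,
    IntNum.euler_push k g (Over.w (a ≫ f)) QCoh.isQCoh_structureModule,
    ← IntNum.euler_push k (fst W K).left (Over.w (fst W K)) QCoh.isQCoh_structureModule,
    CurveCohLib.euler_congr (k := k) (((Coh.push _).mapIso o').symm ≪≫ e2.symm ≪≫ e3), SlopeBound.euler_freeMod k n]
  ring

end Groth.Agent.AVEuler

namespace Groth.Agent.AVEuler

open Groth.Agent Groth.Agent.H23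
open scoped Groth.Agent.H23.PicMul

variable {k : Type u} [Field k] {X Y : Over (Spec (CommRingCat.of k))} [GrpObj X] [GrpObj Y]
  [IsProper X.hom] [GeometricallyIntegral X.hom] [IsProper Y.hom] [GeometricallyIntegral Y.hom]

/-- The Euler characteristic is multiplied by the degree under finite flat maps. -/
theorem euler_pullback (f : X ⟶ Y) [IsFinite f.left] [Flat f.left] (d : ℕ)
    (hd : ∀ y : ↥Y.left, Scheme.Hom.finrank f.left y = d) (F : Y.left.Modules) (hF : Coh.IsCoh F) :
    @Curv2.euler k _ X.left ⟨X.hom⟩ ((Scheme.Modules.pullback f.left).obj F) =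
      (d : ℤ) * @Curv2.euler k _ Y.left ⟨Y.hom⟩ F := by
  letI : X.left.Over (Spec (CommRingCat.of k)) := ⟨X.hom⟩
  letI : Y.left.Over (Spec (CommRingCat.of k)) := ⟨Y.hom⟩
  haveI : IsProper (X.left ↘ Spec (CommRingCat.of k)) := ‹IsProper X.hom›
  haveI : IsProper (Y.left ↘ Spec (CommRingCat.of k)) := ‹IsProper Y.hom›
  haveI : IsCommMonObj Y := isCommMonObj_of_isProper_of_geometricallyIntegral Y
  haveI : IsIntegral Y.left := GeometricallyIntegral.isIntegral_of_subsingleton Y.hom
  haveI : IsIntegral X.left := GeometricallyIntegral.isIntegral_of_subsingleton X.hom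
  haveI := CurveCohLib.isNoetherian_of_proper (k := k) (X := X.left)
  haveI := CurveCohLib.isNoetherian_of_proper (k := k) (X := Y.left)
  haveI : LocallyOfFinitePresentation f.left := by
    haveI : LocallyOfFiniteType f.left := inferInstance
    infer_instance
  let t : 𝟙_ (Over (Spec (CommRingCat.of k))) ⟶ Y := η[X] ≫ f
  let τ : Y ⟶ Y := 𝟙 Y * (toUnit Y ≫ t)
  let τ' : Y ⟶ Y := 𝟙 Y * (toUnit Y ≫ t)⁻¹
  have hτ : ∀ (a b : 𝟙_ (Over (Spec (CommRingCat.of k))) ⟶ Y),
      (𝟙 Y * (toUnit Y ≫ a)) ≫ (𝟙 Y * (toUnit Y ≫ b)) = 𝟙 Y * (toUnit Y ≫ (a * b)) := fun a b => by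
    rw [MonObj.comp_mul (f := 𝟙 Y * (toUnit Y ≫ a)), Category.comp_id, ← Category.assoc,
      toUnit_unique (_ ≫ toUnit Y) (toUnit Y), _root_.mul_assoc, ← MonObj.comp_mul]
  have hτ1 : τ ≫ τ' = 𝟙 Y := by
    show (𝟙 Y * _) ≫ (𝟙 Y * _) = _
    rw [← GrpObj.comp_inv, hτ, mul_inv_cancel, MonObj.comp_one, _root_.mul_one]
  have hτ2 : τ' ≫ τ = 𝟙 Y := by
    show (𝟙 Y * _) ≫ (𝟙 Y * _) = _
    rw [← GrpObj.comp_inv, hτ, inv_mul_cancel, MonObj.comp_one, _root_.mul_one]
  haveI : IsIso τ := ⟨τ', hτ1, hτ2⟩
  haveI : IsIso τ' := ⟨τ, hτ2, hτ1⟩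
  haveI : IsIso τ.left := (Over.forget _).map_isIso τ
  haveI : IsIso τ'.left := (Over.forget _).map_isIso τ'
  let f' : X ⟶ Y := f ≫ τ'
  have hf' : f' ≫ τ = f := by rw [Category.assoc, hτ2, Category.comp_id]
  haveI : IsMonHom f' := AlbFormal.isMonHom_of_one f' (by
    show η[X] ≫ f ≫ (𝟙 Y * (toUnit Y ≫ t)⁻¹) = η[Y]
    rw [MonObj.comp_mul, MonObj.comp_mul, Category.comp_id, GrpObj.comp_inv, GrpObj.comp_inv, ← Category.assoc f,
      ← Category.assoc, toUnit_unique ((η[X] ≫ f ≫ toUnit Y)) (𝟙 _), Category.id_comp, mul_inv_cancel,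
      MonObj.one_eq_one])
  haveI : IsFinite f'.left := inferInstanceAs (IsFinite (f.left ≫ τ'.left))
  haveI : Flat f'.left := inferInstanceAs (Flat (f.left ≫ τ'.left))
  haveI : Surjective f.left := Scheme.Hom.one_le_finrank_iff_surjective f.left |>.1 fun y => by
    obtain ⟨x⟩ : Nonempty X.left := inferInstance
    show 1 ≤ _
    rw [hd y, ← hd (f.left x)]
    exact Scheme.Hom.one_le_finrank_map f.left x
  haveI : Surjective f'.left := inferInstanceAs (Surjective (f.left ≫ τ'.left))
  haveI : LocallyOfFinitePresentation f'.left := inferInstanceAs (LocallyOfFinitePresentation (f.left ≫ τ'.left))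
  have hd' : ∀ y, Scheme.Hom.finrank f'.left y = d := fun y => by
    have h := Scheme.Hom.finrank_of_isPullback (𝟙 X.left) f'.left f.left τ.left
      (IsPullback.of_horiz_isIso ⟨by rw [Category.id_comp, ← Over.comp_left, hf']⟩) y
    rw [h, hd]
  obtain ⟨n, hn⟩ := exists_euler_pullback f'
  obtain ⟨H, hH⟩ := AVProj.exists_isAmple (X := Y)
  obtain ⟨g, hg⟩ : ∃ g : ℕ, topologicalKrullDim Y.left = g :=
    ⟨_, VarDim.topologicalKrullDim_eq_deg_genericPoint Y.hom⟩
  have hnd : (n : ℚ) = d := by
    obtain ⟨y⟩ : Nonempty Y.left := inferInstance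
    have h1 := AVDegPoly.vol_pullback f' hg hH.1 y
    rw [hd'] at h1
    have h2 : AVDegPoly.vol k g ((Scheme.Modules.pullback f'.left).obj H) = (n : ℚ) * AVDegPoly.vol k g H := by
      unfold AVDegPoly.vol
      rw [← AVDegPoly.alt_const_mul]
      refine IntNum.alt_congr fun m => ?_
      have hT : PicF.IsInvertible (CohB1.tensorPow H (∑ l, m l)) := PicMul.isInvertible_tensorPow hH.1 _
      have e1 : PicF.cl (Curv2.tensorPows (Coh.structureModule Y.left) g (fun _ => H) m) =
          PicF.cl (CohB1.tensorPow H (∑ l, m l)) := by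
        rw [AVDegPoly.cl_tensorPows, Finset.prod_pow_eq_pow_sum, PicMul.cl_tensorPow,
          show PicF.cl (Coh.structureModule Y.left) = 1 from rfl, _root_.one_mul]
      have e2 : PicF.cl (Curv2.tensorPows (Coh.structureModule X.left) g
          (fun _ => (Scheme.Modules.pullback f'.left).obj H) m) =
          PicF.cl ((Scheme.Modules.pullback f'.left).obj (CohB1.tensorPow H (∑ l, m l))) := by
        rw [AVDegPoly.cl_tensorPows, Finset.prod_pow_eq_pow_sum, show PicF.cl (Coh.structureModule X.left) = 1 from rfl,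
          _root_.one_mul]
        show _ = PicF.pullCl f'.left (PicF.cl _)
        rw [PicMul.cl_tensorPow, PicMul.pullCl_pow]
        rfl
      unfold Snapper.χs
      rw [CurveCohLib.euler_congr (k := k) (PicMul.cl_eq_iff.1 e1).some,
        CurveCohLib.euler_congr (k := k) (PicMul.cl_eq_iff.1 e2).some, hn _ (AmpleVan.isCoh_invertible hT)]
      push_cast
      ring
    exact mul_right_cancel₀ (AVDegPoly.vol_pos_of_isAmple k hg hH).ne' (h2.symm.trans h1)
  have hτF : Coh.IsCoh ((Scheme.Modules.pullback τ.left).obj F) := ZClosLib.isCoh_pullback τ.left hF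
  rw [CurveCohLib.euler_congr (k := k) (((Scheme.Modules.pullbackComp f'.left τ.left).app F ≪≫
      eqToIso (congrArg (fun m => (Scheme.Modules.pullback m).obj F) (show f'.left ≫ τ.left = f.left by
        rw [← Over.comp_left, hf']))).symm), Functor.comp_obj, hn _ hτF, Nat.cast_injective (R := ℚ) hnd]
  congr 1
  haveI : IsIso ((Scheme.Modules.pullbackPushforwardAdjunction τ.left).unit.app F) :=
    AVTheta8.subsingleton_HH_pullback_iff.isIso_unit_of_isIso' τ.left F
  rw [← IntNum.euler_push k τ.left (Over.w τ) hτF.1]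
  exact CurveCohLib.euler_congr (k := k) (asIso ((Scheme.Modules.pullbackPushforwardAdjunction τ.left).unit.app F)).symm

end Groth.Agent.AVEuler
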