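import Groth.Agent.AVTheta8.Vanish
import Groth.Agent.AVDegPoly.Pullback
import Groth.Agent.SlopeBound.Sect
import Groth.Agent.GrpSchLib.KernelGrp
import Groth.Agent.H23.AlbFormal
import Groth.Agent.ZClosLib.CohDescent

/-!
Euler characteristics under isogenies: dévissage.
-/

set_option autoImplicit false
set_option linter.style.haveILetI false
set_option linter.unusedSectionVars false
set_option backward.isDefEq.respectTransparency false
set_option backward.isDefEq.respectTransparency.types false
set_option maxHeartbeats 1000000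

universe u

open CategoryTheory CategoryTheory.Limits AlgebraicGeometry TopologicalSpace

noncomputable section

namespace Groth.Agent.AVEuler

open Groth.Agent Groth.Agent.IntNum Groth.Agent.H23

variable {Y : Scheme.{u}} [IsNoetherian Y]

theorem support_push_finite {Z : Scheme.{u}} (i : Z ⟶ Y) [IsFinite i] {M : Z.Modules} (hM : Coh.IsQCoh M) :
    CohB1.support ((Coh.push i).obj M) ⊆ Set.range i := fun x hx => by
  by_contra hc
  obtain ⟨_, ⟨U, hU, rfl⟩, hxU, hsub⟩ := Y.isBasis_affineOpens.exists_subset_of_mem_open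
    hc i.isClosedMap.isClosed_range.isOpen_compl
  obtain ⟨m, hm⟩ := (QCoh.mem_support_iff (QCoh.isQCoh_pushforward i hM) hU hxU).1 hx
  have hbot : i ⁻¹ᵁ U = ⊥ := bot_unique fun z hz => hsub hz ⟨z, rfl⟩
  have h1 : (i.app U) 1 = (i.app U) 0 := by
    haveI : Subsingleton Γ(Z, i ⁻¹ᵁ U) := by rw [hbot]; infer_instance
    exact Subsingleton.elim _ _
  refine hm 1 (by rw [Scheme.basicOpen_of_isUnit _ isUnit_one]; exact hxU) ?_
  refine (QCoh.pushforward_smul i U 1 m).trans ?_
  rw [h1, map_zero]
  exact zero_smul Γ(Z, i ⁻¹ᵁ U) (show Γ(M, i ⁻¹ᵁ U) from m)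

/-- An additive function vanishing on one sheaf dominating every subvariety vanishes on all coherent modules. -/
theorem eq_zero_of_dominated {A : Type*} [AddCommGroup A] [IsAddTorsionFree A] (φ : Y.Modules → A)
    (hiso : ∀ {M M' : Y.Modules}, (M ≅ M') → φ M = φ M')
    (hadd : ∀ S : ShortComplex Y.Modules, S.ShortExact → Coh.IsCoh S.X₁ → Coh.IsCoh S.X₂ → Coh.IsCoh S.X₃ →
      φ S.X₂ = φ S.X₁ + φ S.X₃)
    (hzero : ∀ M : Y.Modules, IsZero M → φ M = 0)
    (hdom : ∀ ξ : Y, ∃ (W : Scheme.{u}) (_ : IsIntegral W) (g : W ⟶ Y), IsFinite g ∧ g (genericPoint W) = ξ ∧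
      φ ((Coh.push g).obj (Coh.structureModule W)) = 0)
    {M : Y.Modules} (hM : Coh.IsCoh M) {d : ℕ} (hd : topologicalKrullDim ↥(CohB1.support M) < (d : WithBot ℕ∞)) :
    φ M = 0 := by
  induction d generalizing M with
  | zero =>
    refine hzero M (CurveCohLib.isZero_of_subsingleton_stalks fun x => ?_)
    by_contra hx
    haveI : Nonempty ↥(CohB1.support M) := ⟨⟨x, hx⟩⟩
    exact absurd hd (not_lt.2 (@Order.krullDim_nonneg _ _ ⟨⟨closure {(⟨x, hx⟩ : ↥(CohB1.support M))},
      isIrreducible_singleton.closure, isClosed_closure⟩⟩))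
  | succ e ih =>
    have hle : topologicalKrullDim ↥(CohB1.support M) ≤ (e : WithBot ℕ∞) := by
      rcases hb : topologicalKrullDim ↥(CohB1.support M) with _ | a
      · exact bot_le
      · rw [hb] at hd
        have h1 : a < ((e + 1 : ℕ) : ℕ∞) := WithBot.coe_lt_coe.1 hd
        refine WithBot.coe_le_coe.2 ?_
        exact Order.le_of_lt_add_one (by simpa using h1)
    have hS0 : ∀ (P : Y.Modules), Coh.IsCoh P → topologicalKrullDim ↥(CohB1.support P) ≤ (e : WithBot ℕ∞) →
        ∃ S : Finset Y, (∀ ξ ∈ S, topologicalKrullDim ↥(closure ({ξ} : Set Y)) = (e : WithBot ℕ∞)) ∧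
          (∀ ξ : Y, topologicalKrullDim ↥(closure ({ξ} : Set Y)) = (e : WithBot ℕ∞) → ξ ∉ S → lenAt P ξ = 0) ∧
          φ P - ∑ ξ ∈ S, lenAt P ξ • φ (ClSub.quotMod (ptIdeal ξ)) ∈ (⊥ : AddSubgroup A) := fun P hP hP' =>
      leading ⊥ φ e hiso hadd (fun Q hQ hQd => by rw [AddSubgroup.mem_bot]; exact ih hQ hQd) hP hP'
    have hpt : ∀ ξ : Y, topologicalKrullDim ↥(closure ({ξ} : Set Y)) = (e : WithBot ℕ∞) →
        φ (ClSub.quotMod (ptIdeal ξ)) = 0 := fun ξ hξ => by
      obtain ⟨W, hW, g, hg, hgξ, h0⟩ := hdom ξ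
      let G := (Coh.push g).obj (Coh.structureModule W)
      haveI : IsLocallyNoetherian W := LocallyOfFiniteType.isLocallyNoetherian g
      have hO : Coh.IsCoh (Coh.structureModule W) := AmpleVan.isCoh_invertible InvX.isInvertible_structureModule
      have hG : Coh.IsCoh G := QCoh.isCoh_pushforward_finite g hO
      have hrange : Set.range g ⊆ closure ({ξ} : Set Y) := by
        rintro _ ⟨w, rfl⟩
        rw [← hgξ]
        exact ((genericPoint_specializes w).map g.continuous).mem_closure
      have hsupp : CohB1.support G ⊆ closure ({ξ} : Set Y) := (support_push_finite g hO.1).trans hrange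
      obtain ⟨S, hS, h0', hmem⟩ := hS0 G hG ((H23.TopDim.dim_le_dim_of_subset hsupp).trans hξ.le)
      have hone : ∀ z, g z = g (genericPoint W) → z = genericPoint W := fun z hz =>
        (AlgSpDec.eq_of_specializes_of_isIntegralHom g (genericPoint_specializes z) hz.symm).symm
      have hne : lenAt G ξ ≠ 0 := by
        have hb := bijective_stalkPushforward g g.isClosedMap (Coh.structureModule W) hone
        haveI : Nontrivial ((Coh.structureModule W).presheaf.stalk (genericPoint W)) := by
          refine nontrivial_of_ne (UnitSec.one (genericPoint W)) 0 fun h => ?_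
          exact one_ne_zero (UnitSec.eq_zero_of_smul_one (1 : W.presheaf.stalk (genericPoint W))
            (by rw [one_smul]; exact h))
        haveI hnt : Nontrivial (G.presheaf.stalk ξ) := hgξ ▸ hb.2.nontrivial
        have hfin := CycLib.length_stalk_lt_top G hG (ξ := ξ) fun y hy hyξ => by
          by_contra hne'
          refine hne' ((specializes_iff_mem_closure.2 (hsupp (not_subsingleton_iff_nontrivial.2 hy))).antisymm hyξ).eq.symm
        unfold lenAt
        rw [ne_eq, ENat.toNat_eq_zero, not_or]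
        exact ⟨Module.length_pos.ne', hfin.ne⟩
      have hξS : ξ ∈ S := by
        by_contra h
        exact hne (h0' ξ hξ h)
      rw [Finset.sum_eq_single_of_mem ξ hξS fun η hη hne' => by
        rw [lenAt_eq_zero (fun h => (dim_closure_lt (closure_minimal (Set.singleton_subset_iff.2 (hsupp h))
          isClosed_closure) hne' hξ.le).ne (hS η hη)), zero_smul], h0, AddSubgroup.mem_bot, zero_sub,
        neg_eq_zero] at hmem
      exact (smul_eq_zero.1 hmem).resolve_left hne
    obtain ⟨S, hS, -, hmem⟩ := hS0 M hM hle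
    rw [AddSubgroup.mem_bot, Finset.sum_eq_zero fun ξ hξ => by rw [hpt ξ (hS ξ hξ), smul_zero], sub_zero] at hmem
    exact hmem

end Groth.Agent.AVEuler
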