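import Groth.Agent.AVEuler.Isogeny
import Groth.Agent.AVDegLib.MulN
import Groth.Agent.AVDegPoly.Vol

/-!
The Euler characteristic of a power of an invertible module on an abelian variety is homogeneous.
-/

set_option autoImplicit false
set_option linter.style.haveILetI false
set_option linter.unusedSectionVars false
set_option backward.isDefEq.respectTransparency false
set_option backward.isDefEq.respectTransparency.types false
set_option maxHeartbeats 2000000

universe u

open CategoryTheory CategoryTheory.Limits MonoidalCategory CartesianMonoidalCategory MonObj AlgebraicGeometry TopologicalSpace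

noncomputable section

namespace Groth.Agent.AVEuler

open Groth.Agent Groth.Agent.H23 Groth.Agent.AVCube
open scoped Groth.Agent.H23.PicMul

theorem natDegree_aeval_le {σ : Type*} [Fintype σ] (Q : MvPolynomial σ ℚ) {g : ℕ} (hQ : Q.totalDegree ≤ g)
    (p : σ → Polynomial ℚ) (hp : ∀ i, (p i).natDegree ≤ 1) : (MvPolynomial.aeval p Q).natDegree ≤ g := by
  rw [MvPolynomial.as_sum Q, map_sum]
  refine Polynomial.natDegree_sum_le_of_forall_le _ _ fun α hα => ?_
  rw [MvPolynomial.aeval_monomial]
  refine (Polynomial.natDegree_C_mul_le _ _).trans ?_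
  rw [Finsupp.prod_fintype _ _ fun i => pow_zero _]
  refine (Polynomial.natDegree_prod_le _ _).trans ((Finset.sum_le_sum fun i _ =>
    Polynomial.natDegree_pow_le.trans ((Nat.mul_le_mul_left _ (hp i)).trans (Nat.mul_one _).le)).trans ?_)
  refine le_trans ?_ ((MvPolynomial.le_totalDegree hα).trans hQ)
  rw [Finsupp.sum_fintype _ _ fun _ => rfl]

theorem eval_aeval_poly {σ : Type*} (Q : MvPolynomial σ ℚ) (p : σ → Polynomial ℚ) (t : ℚ) :
    (MvPolynomial.aeval p Q).eval t = MvPolynomial.eval (fun i => (p i).eval t) Q := by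
  induction Q using MvPolynomial.induction_on with
  | C a => simp
  | add p q hp hq => simp [hp, hq]
  | mul_X p n hp => simp [hp]

/-- The algebraic core: the quadratic functional equation forces homogeneity. -/
theorem homogeneous_of_functional {g : ℕ} (Q : MvPolynomial (Fin 2) ℚ) (hQ : Q.totalDegree ≤ g)
    (h : ∀ (n : ℕ) (m : ℕ), 1 ≤ n →
      MvPolynomial.eval ![(((n + 1).choose 2 * m : ℕ) : ℚ), ((n.choose 2 * m : ℕ) : ℚ)] Q =
        (n : ℚ) ^ (2 * g) * MvPolynomial.eval ![(m : ℚ), 0] Q) (x : ℚ) :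
    MvPolynomial.eval ![x, 0] Q = x ^ g * MvPolynomial.eval ![1, 0] Q := by
  have hid : ∀ s m : ℚ, MvPolynomial.eval ![(s ^ 2 + s) / 2 * m, (s ^ 2 - s) / 2 * m] Q =
      s ^ (2 * g) * MvPolynomial.eval ![m, 0] Q := by
    intro s m
    let X0 : MvPolynomial (Fin 2) ℚ := MvPolynomial.X 0
    let X1 : MvPolynomial (Fin 2) ℚ := MvPolynomial.X 1
    let l : MvPolynomial (Fin 2) ℚ := MvPolynomial.aeval
      ![MvPolynomial.C (1 / 2) * (X0 ^ 2 + X0) * X1, MvPolynomial.C (1 / 2) * (X0 ^ 2 - X0) * X1] Q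
    let r : MvPolynomial (Fin 2) ℚ := X0 ^ (2 * g) * MvPolynomial.aeval ![X1, 0] Q
    have evl : ∀ v : Fin 2 → ℚ, MvPolynomial.eval v l =
        MvPolynomial.eval ![(v 0 ^ 2 + v 0) / 2 * v 1, (v 0 ^ 2 - v 0) / 2 * v 1] Q := fun v => by
      rw [Snapper.eval_aeval]
      congr 2
      funext i
      fin_cases i <;> simp [X0, X1] <;> ring_nf <;> first | exact Or.inl trivial | skip
    have evr : ∀ v : Fin 2 → ℚ, MvPolynomial.eval v r = v 0 ^ (2 * g) * MvPolynomial.eval ![v 1, 0] Q := fun v => by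
      rw [map_mul, Snapper.eval_aeval]
      congr 1
      · simp [X0]
      congr 2
      funext i
      fin_cases i <;> simp [X1]
    have hlr : l = r := by
      refine MvPolynomial.funext_set (fun _ => Set.range (fun j : ℕ => ((j + 1 : ℕ) : ℚ)))
        (fun _ => Set.infinite_range_of_injective fun a b hab => by simpa using hab) fun v hv => ?_
      choose j hj using fun i => hv i (Set.mem_univ i)
      have c2 : ∀ a : ℕ, (((a + 1).choose 2 : ℕ) : ℚ) = ((a : ℚ) ^ 2 + a) / 2 := fun a => by
        rw [Nat.cast_choose_two]; push_cast; ring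
      rw [evl, evr, ← hj 0, ← hj 1]
      have h' := h (j 0 + 1) (j 1 + 1) (by omega)
      simp only [Nat.cast_mul, Nat.cast_choose_two] at h'
      push_cast at h' ⊢
      rw [← h']
      congr 2
      funext i
      fin_cases i <;> simp <;> ring_nf <;> exact Or.inl trivial
    have := congrArg (MvPolynomial.eval ![s, m]) hlr
    rw [evl, evr] at this
    simpa using this
  let P : Polynomial ℚ := MvPolynomial.aeval ![Polynomial.X, 0] Q
  let F : Polynomial ℚ := MvPolynomial.aeval
    ![Polynomial.C (1 / 2) * (Polynomial.X + 1), Polynomial.C (1 / 2) * (Polynomial.X - 1)] Q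
  have hP : P.natDegree ≤ g := natDegree_aeval_le Q hQ _ fun i => by
    fin_cases i <;> simp
  have hF : F.natDegree ≤ g := natDegree_aeval_le Q hQ _ fun i => by
    fin_cases i <;> simp only [Fin.zero_eta, Fin.mk_one, Matrix.cons_val_zero, Matrix.cons_val_one] <;>
      refine (Polynomial.natDegree_C_mul_le _ _).trans ?_
    · exact (Polynomial.natDegree_add_le _ _).trans (by simp)
    · exact (Polynomial.natDegree_sub_le _ _).trans (by simp)
  have evP : ∀ t, P.eval t = MvPolynomial.eval ![t, 0] Q := fun t => by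
    rw [eval_aeval_poly]; congr 2; funext i; fin_cases i <;> simp
  have hrefl : F = P.reflect (2 * g) := by
    refine Polynomial.eq_of_infinite_eval_eq _ _ ((Set.infinite_range_of_injective
      (f := fun j : ℕ => ((j + 1 : ℕ) : ℚ)) fun a b hab => by simpa using hab).mono ?_)
    rintro _ ⟨j, rfl⟩
    show F.eval (((j + 1 : ℕ) : ℚ)) = (P.reflect (2 * g)).eval _
    set t : ℚ := ((j + 1 : ℕ) : ℚ) with ht
    have ht0 : t ≠ 0 := by rw [ht]; positivity
    letI : Invertible t⁻¹ := invertibleOfNonzero (inv_ne_zero ht0)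
    have hr := Polynomial.eval₂_reflect_mul_pow (RingHom.id ℚ) t⁻¹ (2 * g) P (hP.trans (by omega))
    rw [invOf_eq_inv, inv_inv] at hr
    have hr' : (P.reflect (2 * g)).eval t = t ^ (2 * g) * P.eval t⁻¹ := by
      change (P.reflect (2 * g)).eval t * t⁻¹ ^ (2 * g) = P.eval t⁻¹ at hr
      rw [← hr, inv_pow]
      field_simp
    rw [hr', evP, ← hid, eval_aeval_poly]
    congr 2
    funext i
    fin_cases i <;> simp <;> field_simp
  have hcoeff : ∀ l, l < g → P.coeff l = 0 := fun l hl => by
    have h1 : F.coeff (2 * g - l) = 0 := Polynomial.coeff_eq_zero_of_natDegree_lt (by omega)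
    rwa [hrefl, Polynomial.coeff_reflect, Polynomial.revAt_le (by omega), Nat.sub_sub_self (by omega)] at h1
  have hPeq : P = Polynomial.C (P.coeff g) * Polynomial.X ^ g := by
    ext l
    rw [Polynomial.coeff_C_mul, Polynomial.coeff_X_pow]
    rcases lt_trichotomy l g with hl | rfl | hl
    · rw [hcoeff l hl, if_neg hl.ne, mul_zero]
    · simp
    · rw [Polynomial.coeff_eq_zero_of_natDegree_lt (lt_of_le_of_lt hP hl), if_neg hl.ne', mul_zero]
  rw [← evP, ← evP, hPeq]
  simp only [Polynomial.eval_mul, Polynomial.eval_C, Polynomial.eval_pow, Polynomial.eval_X, one_pow, _root_.mul_one]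
  ring

variable {k : Type u} [Field k] {A : Over (Spec (CommRingCat.of k))} [GrpObj A] [IsProper A.hom]
  [GeometricallyIntegral A.hom]

/-- Pullback of any class along a power of the identity. -/
theorem pc_pow {L : A.left.Modules} (hL : PicF.IsInvertible L) : ∀ n : ℕ,
    pc hL (𝟙 A ^ n) = pc hL (𝟙 A) ^ (n + 1).choose 2 * pc hL ((𝟙 A)⁻¹ : A ⟶ A) ^ n.choose 2
  | 0 => by rw [pow_zero, pc_one]; simp
  | 1 => by simp
  | n + 2 => by
    have h1 := pc_pow hL (n + 1)
    have h0 := pc_pow hL n
    have h := cube_rel hL (𝟙 A ^ (n + 1)) (𝟙 A) ((𝟙 A)⁻¹)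
    rw [mul_inv_cancel_right, mul_inv_cancel, pc_one, ← pow_succ, show 𝟙 A ^ (n + 1) * (𝟙 A)⁻¹ = 𝟙 A ^ n by
      rw [pow_succ, mul_inv_cancel_right], _root_.mul_one] at h
    have c1 : ∀ j : ℕ, (j + 1).choose 2 = j.choose 2 + j := fun j => by
      rw [Nat.choose_succ_succ, Nat.choose_one_right, add_comm]
    simp only [c1] at h0 h1 ⊢
    refine Additive.ofMul.injective ?_
    replace h0 := congrArg Additive.ofMul h0
    replace h1 := congrArg Additive.ofMul h1
    replace h := congrArg Additive.ofMul h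
    simp only [ofMul_mul, ofMul_pow] at h0 h1 h ⊢
    linear_combination (norm := module) -h + (2 : ℕ) • h1 - h0

/-- The Euler characteristic of powers is homogeneous of degree the dimension, in integral exponents. -/
theorem euler_homogeneous {g : ℕ} (hg : topologicalKrullDim A.left = g) {L M : A.left.Modules}
    (hL : PicF.IsInvertible L) (hM : PicF.IsInvertible M) (hLM : PicF.cl L * PicF.cl M = 1) (a b : ℕ) :
    (@Curv2.euler k _ A.left ⟨A.hom⟩ (CohB1.tensorMod (CohB1.tensorPow L a) (CohB1.tensorPow M b)) : ℚ) =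
      ((a : ℚ) - b) ^ g * (@Curv2.euler k _ A.left ⟨A.hom⟩ L : ℚ) := by
  letI : A.left.Over (Spec (CommRingCat.of k)) := ⟨A.hom⟩
  haveI : IsProper (A.left ↘ Spec (CommRingCat.of k)) := ‹IsProper A.hom›
  haveI := CurveCohLib.isNoetherian_of_proper (k := k) (X := A.left)
  let j := ((𝟙 A)⁻¹ : A ⟶ A)
  let Ls : Fin 2 → A.left.Modules := ![L, (Scheme.Modules.pullback j.left).obj L]
  let Ds : Fin 2 → A.left.Modules := ![M, (Scheme.Modules.pullback j.left).obj M]
  have hLs : ∀ i, PicF.IsInvertible (Ls i) := by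
    intro i; fin_cases i
    · exact hL
    · exact PicClLib.isInvertible_pullback _ hL
  have hDs : ∀ i, PicF.IsInvertible (Ds i) := by
    intro i; fin_cases i
    · exact hM
    · exact PicClLib.isInvertible_pullback _ hM
  have hLD : ∀ i, PicF.cl (Ls i) * PicF.cl (Ds i) = 1 := by
    intro i; fin_cases i
    · exact hLM
    · show PicMul.pullHom j.left (PicF.cl L) * PicMul.pullHom j.left (PicF.cl M) = 1
      rw [← map_mul, hLM, map_one]
  obtain ⟨Q, hQd, hQ⟩ := AVDegPoly.exists_poly_int k hg.le Ls Ds hLs hDs hLD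
  have hcl : ∀ (u v : Fin 2 → ℕ), PicF.cl (Curv2.tensorPows (Coh.structureModule A.left) (2 + 2) (Fin.append Ls Ds)
      (Fin.append u v)) = (∏ i, PicF.cl (Ls i) ^ u i) * ∏ i, PicF.cl (Ds i) ^ v i := fun u v => by
    rw [AVDegPoly.cl_tensorPows, Fin.prod_univ_add, show PicF.cl (Coh.structureModule A.left) = 1 from rfl,
      _root_.one_mul]
    simp only [Fin.append_left, Fin.append_right]
  have hval : ∀ (u v : Fin 2 → ℕ) (N : A.left.Modules),
      PicF.cl N = (∏ i, PicF.cl (Ls i) ^ u i) * ∏ i, PicF.cl (Ds i) ^ v i →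
      (Curv2.euler k A.left N : ℚ) = MvPolynomial.eval (fun i => (u i : ℚ) - v i) Q := fun u v N hN => by
    rw [← hQ u v]
    exact congrArg Int.cast (CurveCohLib.euler_congr (k := k) (PicMul.cl_eq_iff.1 (hN.trans (hcl u v).symm)).some)
  have hmain : ∀ a b : ℕ, (Curv2.euler k A.left (CohB1.tensorMod (CohB1.tensorPow L a) (CohB1.tensorPow M b)) : ℚ) =
      MvPolynomial.eval ![(a : ℚ) - b, 0] Q := fun a b => by
    rw [hval ![a, 0] ![b, 0] _ (by
      rw [PicMul.cl_tensor, PicMul.cl_tensorPow, PicMul.cl_tensorPow, Fin.prod_univ_two, Fin.prod_univ_two]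
      simp [Ls, Ds])]
    congr 2
    funext i
    fin_cases i <;> simp
  have hfun : ∀ (n : ℕ) (m : ℕ), 1 ≤ n →
      MvPolynomial.eval ![(((n + 1).choose 2 * m : ℕ) : ℚ), ((n.choose 2 * m : ℕ) : ℚ)] Q =
        (n : ℚ) ^ (2 * g) * MvPolynomial.eval ![(m : ℚ), 0] Q := by
    intro n m hn
    let φ := (𝟙 A ^ n : A ⟶ A)
    haveI := AVMulN.isFinite_pow (A := A) n hn
    haveI := AVDegLib.flat_pow (A := A) n hn
    have hd : ∀ y : A.left, Scheme.Hom.finrank φ.left y = n ^ (2 * g) := fun y => by
      have h := AVDegLib.finrank_zpow hg (n : ℤ) (by omega) y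
      rwa [zpow_natCast, Int.natAbs_natCast] at h
    have hP : PicF.IsInvertible (CohB1.tensorPow L m) := PicMul.isInvertible_tensorPow hL _
    have h := AVEuler.euler_pullback φ _ hd _ (AmpleVan.isCoh_invertible hP)
    have hc := congrArg Units.val (pc_pow hL n)
    rw [Units.val_mul, Units.val_pow_eq_pow_val, Units.val_pow_eq_pow_val, val_pc_id] at hc
    have e1 : (Curv2.euler k A.left ((Scheme.Modules.pullback φ.left).obj (CohB1.tensorPow L m)) : ℚ) =
        MvPolynomial.eval ![(((n + 1).choose 2 * m : ℕ) : ℚ), ((n.choose 2 * m : ℕ) : ℚ)] Q := by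
      rw [hval ![(n + 1).choose 2 * m, n.choose 2 * m] ![0, 0] _ (by
        show PicF.pullCl φ.left (PicF.cl _) = _
        rw [PicMul.cl_tensorPow, PicMul.pullCl_pow, show PicF.pullCl φ.left (PicF.cl L) = _ from hc, mul_pow,
          ← pow_mul, ← pow_mul, Fin.prod_univ_two, Fin.prod_univ_two]
        simp [Ls, Ds, val_pc]
        rfl)]
      congr 2
      funext i
      fin_cases i <;> simp
    have e2 := hmain m 0
    rw [CurveCohLib.euler_congr (k := k) (PicMul.cl_eq_iff.1 (show PicF.cl (CohB1.tensorMod (CohB1.tensorPow L m)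
      (CohB1.tensorPow M 0)) = PicF.cl (CohB1.tensorPow L m) by
        rw [PicMul.cl_tensor, PicMul.cl_tensorPow M, pow_zero, _root_.mul_one])).some] at e2
    rw [← e1, h]
    push_cast
    rw [e2]
    simp
  rw [hmain, homogeneous_of_functional Q hQd hfun]
  congr 1
  have e3 := hmain 1 0
  rw [CurveCohLib.euler_congr (k := k) (PicMul.cl_eq_iff.1 (show PicF.cl (CohB1.tensorMod (CohB1.tensorPow L 1)
      (CohB1.tensorPow M 0)) = PicF.cl L by
        rw [PicMul.cl_tensor, PicMul.cl_tensorPow, PicMul.cl_tensorPow, pow_zero, pow_one, _root_.mul_one])).some] at e3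
  simpa using e3.symm

end Groth.Agent.AVEuler
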