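import Groth.Agent.AVEuler.Trace
import Groth.Agent.AVEuler.Homog
import Groth.Agent.AVTheta8.AlgEq
import Groth.Agent.VolLib.UnifMain
import Groth.Agent.S12006
import Groth.Agent.S4278
import Groth.Agent.AVDegPoly.Pullback

/-!
# Vanishing for ample line bundles on abelian varieties
-/

noncomputable section

set_option autoImplicit false
set_option linter.style.haveILetI false
set_option linter.unusedSectionVars false
set_option backward.isDefEq.respectTransparency false
set_option backward.isDefEq.respectTransparency.types false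
set_option maxHeartbeats 1000000

universe u

open CategoryTheory CategoryTheory.Limits MonoidalCategory CartesianMonoidalCategory MonObj AlgebraicGeometry TopologicalSpace

namespace Groth.Agent.AVEuler

open Groth.Agent Groth.Agent.H23 Groth.Agent.AVPair Groth.Agent.AVCube
open scoped Groth.Agent.H23.PicMul

variable {k : Type u} [Field k] [IsAlgClosed k] {A : Over (Spec (CommRingCat.of k))} [GrpObj A] [IsProper A.hom]
  [GeometricallyIntegral A.hom]

local notation "Pt" => 𝟙_ (Over (Spec (CommRingCat.of k))) ⟶ A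

/-- `[-1]^*L` differs from `L` by a numerically trivial class. -/
theorem exists_numTriv_inv {L : A.left.Modules} (hL : PicF.IsInvertible L) :
    letI : A.left.Over (Spec (CommRingCat.of k)) := ⟨A.hom⟩
    haveI : IsProper (A.left ↘ Spec (CommRingCat.of k)) := ‹IsProper A.hom›
    ∃ N : A.left.Modules, VolLib.NT k N ∧
      PicF.cl ((Scheme.Modules.pullback ((𝟙 A)⁻¹ : A ⟶ A).left).obj L) = PicF.cl N * PicF.cl L := by
  letI : A.left.Over (Spec (CommRingCat.of k)) := ⟨A.hom⟩
  haveI : IsProper (A.left ↘ Spec (CommRingCat.of k)) := ‹IsProper A.hom›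
  haveI : IsIntegral A.left := GeometricallyIntegral.isIntegral_of_subsingleton A.hom
  obtain ⟨D, hD, ⟨e⟩⟩ := H23.PicInv.exists_inverse hL
  have hLD : PicF.cl L * PicF.cl D = 1 := by
    rw [← PicMul.cl_tensor, PicMul.one_def]; exact PicMul.cl_eq_iff.2 ⟨e⟩
  let j := ((𝟙 A)⁻¹ : A ⟶ A)
  let L' := (Scheme.Modules.pullback j.left).obj L
  have hL' : PicF.IsInvertible L' := PicClLib.isInvertible_pullback _ hL
  have hN : PicF.IsInvertible (CohB1.tensorMod L' D) := InvX.isInvertible_tensorMod hL' hD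
  refine ⟨CohB1.tensorMod L' D, ⟨hN, S4278.result k A.left _ hN ?_⟩, by
    rw [PicMul.cl_tensor, _root_.mul_assoc, _root_.mul_comm (PicF.cl D), hLD, _root_.mul_one]⟩
  refine ⟨1, Nat.one_pos, ?_⟩
  have hinv := AVTheta8.algEquivZero_of_invariant hN (fun b => by
    show pl (CubeAb.tr b) (PicF.cl (CohB1.tensorMod L' D)) = _
    have h := PicMul.cl_eq_iff.2 (S12006.result k A L hL b)
    rw [PicMul.cl_tensor, PicMul.cl_tensor] at h
    change pl (CubeAb.tr b) (PicF.cl L') * PicF.cl L = PicF.cl L' * pl (CubeAb.tr b) (PicF.cl L) at h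
    have hu : IsUnit (pl (CubeAb.tr b) (PicF.cl L) * PicF.cl L) :=
      ((IsUnit.of_mul_eq_one _ hLD).map (pl (CubeAb.tr b))).mul (IsUnit.of_mul_eq_one _ hLD)
    rw [PicMul.cl_tensor, map_mul]
    refine hu.mul_left_inj.1 ?_
    have h1 : pl (CubeAb.tr b) (PicF.cl D) * pl (CubeAb.tr b) (PicF.cl L) = 1 := by
      rw [← map_mul, _root_.mul_comm, hLD, map_one]
    calc _ = pl (CubeAb.tr b) (PicF.cl L') * PicF.cl L *
          (pl (CubeAb.tr b) (PicF.cl D) * pl (CubeAb.tr b) (PicF.cl L)) := by ac_rfl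
      _ = PicF.cl L' * pl (CubeAb.tr b) (PicF.cl L) * (PicF.cl L * PicF.cl D) := by rw [h1, hLD, h]
      _ = _ := by ac_rfl)
  obtain ⟨e1⟩ := PicMul.cl_eq_iff.1 (show PicF.cl (CohB1.tensorMod L' D) =
    PicF.cl (CohB1.tensorPow (CohB1.tensorMod L' D) 1) by rw [PicMul.cl_tensorPow, pow_one])
  exact AVDual.algEquivZero_of_iso e1 hinv

/-- **Higher cohomology of an ample line bundle vanishes.** -/
theorem subsingleton_HH_ample {L : A.left.Modules} (hLa : CohB1.IsAmple L) (q : ℕ) :
    Subsingleton (Coh.HH A.left L (q + 1)) := by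
  letI : A.left.Over (Spec (CommRingCat.of k)) := ⟨A.hom⟩
  haveI : IsProper (A.left ↘ Spec (CommRingCat.of k)) := ‹IsProper A.hom›
  haveI : IsIntegral A.left := GeometricallyIntegral.isIntegral_of_subsingleton A.hom
  haveI := CurveCohLib.isNoetherian_of_proper (k := k) (X := A.left)
  obtain ⟨g, hg⟩ : ∃ g : ℕ, topologicalKrullDim A.left = g :=
    ⟨_, VarDim.topologicalKrullDim_eq_deg_genericPoint A.hom⟩
  have hO : Coh.IsCoh (Coh.structureModule A.left) := QCoh.isCoh_structureModule'
  have hdim : topologicalKrullDim ↥(CohB1.support (Coh.structureModule A.left)) < ((g + 1 : ℕ) : WithBot ℕ∞) :=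
    lt_of_le_of_lt ((topologicalKrullDim_subspace_le A.left _).trans hg.le) (by exact_mod_cast Nat.lt_succ_self g)
  obtain ⟨m₀, hm₀⟩ := (VolLib.unif k hLa hO hdim).van
  obtain ⟨n, hn, hnp⟩ := Nat.exists_infinite_primes (m₀ + ringChar k + 1)
  have hnk : (n : k) ≠ 0 := by
    rw [Ne, ringChar.spec]
    intro hdvd
    rcases (Nat.dvd_prime hnp).1 hdvd with h | h
    · exact CharP.ringChar_ne_one h
    · omega
  let φ := (𝟙 A ^ n : A ⟶ A)
  haveI := AVMulN.isFinite_pow (A := A) n (by omega)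
  haveI := AVDegLib.flat_pow (A := A) n (by omega)
  haveI : LocallyOfFinitePresentation φ.left := by
    haveI : LocallyOfFiniteType φ.left := inferInstance
    infer_instance
  have hd : ∀ y : A.left, Scheme.Hom.finrank φ.left y = n ^ (2 * g) := fun y => by
    have h := AVDegLib.finrank_zpow hg (n : ℤ) (by omega) y
    rwa [zpow_natCast, Int.natAbs_natCast] at h
  refine subsingleton_HH_of_pullback k φ.left (n ^ (2 * g)) ⟨⟨inferInstance, inferInstance, inferInstance⟩, hd⟩
    (by rw [Nat.cast_pow]; exact pow_ne_zero _ hnk) hLa.1 (q + 1) ?_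
  obtain ⟨N, hN, hcl⟩ := exists_numTriv_inv hLa.1
  have hc := congrArg Units.val (pc_pow hLa.1 n)
  rw [Units.val_mul, Units.val_pow_eq_pow_val, Units.val_pow_eq_pow_val, val_pc_id] at hc
  have hch : (n + 1).choose 2 + n.choose 2 = n * n := by
    rw [show (n + 1).choose 2 = n + n.choose 2 by rw [Nat.choose_succ_succ' n 1, Nat.choose_one_right]]
    have h2 := Nat.choose_two_right n
    obtain ⟨c, hc⟩ := (Nat.even_mul_pred_self n).two_dvd
    rw [hc, Nat.mul_div_cancel_left _ (by norm_num : 0 < 2)] at h2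
    rw [Nat.mul_sub, Nat.mul_one] at hc
    have := Nat.le_mul_self n
    omega
  let M := (AmpleVan.tw (VolLib.tP L (CohB1.tensorPow N (n.choose 2)) (n * n))).obj (Coh.structureModule A.left)
  have hM : PicF.cl M = PicF.cl N ^ (n.choose 2) * PicF.cl L ^ (n * n) := by
    show PicF.cl (CohB1.tensorMod _ (CohB1.tensorMod _ _)) = _
    simp only [PicMul.cl_tensor, PicMul.cl_tensorPow, ← PicMul.one_def, _root_.one_mul]
  obtain ⟨e⟩ := PicMul.cl_eq_iff.1 (show PicF.cl M = PicF.cl ((Scheme.Modules.pullback φ.left).obj L) from by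
    rw [hM]
    refine Eq.trans ?_ (show PicF.cl ((Scheme.Modules.pullback φ.left).obj L) = _ from hc).symm
    rw [show (((pc hLa.1 ((𝟙 A)⁻¹ : A ⟶ A)) : (PicF.Cl A.left)ˣ) : PicF.Cl A.left) = PicF.cl N * PicF.cl L from hcl,
      mul_pow, ← hch, pow_add]
    ac_rfl)
  exact QCoh.subsingleton_HH_of_iso e (q + 1)
    (hm₀ _ (hN.pow _) (n * n) (le_trans (by omega) (Nat.le_mul_self n)) q)

/-- **An ample line bundle has sections.** -/
theorem nontrivial_HH_zero_ample {L : A.left.Modules} (hLa : CohB1.IsAmple L) :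
    Nontrivial (Coh.HH A.left L 0) := by
  letI : A.left.Over (Spec (CommRingCat.of k)) := ⟨A.hom⟩
  haveI : IsProper (A.left ↘ Spec (CommRingCat.of k)) := ‹IsProper A.hom›
  haveI : IsIntegral A.left := GeometricallyIntegral.isIntegral_of_subsingleton A.hom
  haveI := CurveCohLib.isNoetherian_of_proper (k := k) (X := A.left)
  obtain ⟨g, hg⟩ : ∃ g : ℕ, topologicalKrullDim A.left = g :=
    ⟨_, VarDim.topologicalKrullDim_eq_deg_genericPoint A.hom⟩
  rw [← not_subsingleton_iff_nontrivial]
  intro h0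
  have hchi : Curv2.euler k A.left L = 0 := by
    rw [VolLib.euler_one (k := k) (subsingleton_HH_ample hLa), VolLib.dimH_of_subsingleton (k := k) h0]
    rfl
  obtain ⟨D, hD, ⟨e⟩⟩ := H23.PicInv.exists_inverse hLa.1
  have hLD : PicF.cl L * PicF.cl D = 1 := by
    rw [← PicMul.cl_tensor, PicMul.one_def]; exact PicMul.cl_eq_iff.2 ⟨e⟩
  have hall : ∀ a : ℕ, ∀ N : A.left.Modules, PicF.cl N = PicF.cl L ^ a → Curv2.euler k A.left N = 0 := by
    intro a N hN
    have h := euler_homogeneous hg hLa.1 hD hLD a 0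
    rw [hchi, Int.cast_zero, mul_zero, Int.cast_eq_zero] at h
    rw [← h]
    refine CurveCohLib.euler_congr (k := k) (PicMul.cl_eq_iff.1 ?_).some
    rw [hN, PicMul.cl_tensor, PicMul.cl_tensorPow, PicMul.cl_tensorPow, pow_zero, _root_.mul_one]
  refine (AVDegPoly.vol_pos_of_isAmple k hg hLa).ne' ?_
  refine Finset.sum_eq_zero fun x _ => ?_
  refine mul_eq_zero_of_right _ (Int.cast_eq_zero.2 (hall (∑ i, (x i : ℕ)) _ ?_))
  rw [AVDegPoly.cl_tensorPows, Finset.prod_pow_eq_pow_sum, show PicF.cl (Coh.structureModule A.left) = 1 from rfl,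
    _root_.one_mul]

end Groth.Agent.AVEuler
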