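import Groth.Agent.AVEuler.AmpleVanishing
import Groth.Agent.CurveBC.Coh
import Groth.Agent.S2332
import Groth.Agent.AmpleX.RelAffine
import Groth.Agent.NormX.NormalAmple
import Groth.Agent.CohPullLib.NbhdRank
import Groth.Agent.CohPullLib.LocRestrict
import Groth.Agent.QCoh.Support
import Groth.Agent.Lib.AVDual
import Groth.Agent.PerfLocus7.RelTor
import Groth.Prelude.Def_Red
import Groth.Prelude.Def_AgPol
import Mathlib.FieldTheory.IsAlgClosed.AlgebraicClosure

/-!
# Vanishing for ample line bundles: arbitrary fields and abelian schemes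
-/

noncomputable section

set_option autoImplicit false
set_option linter.style.haveILetI false
set_option linter.unusedSectionVars false
set_option backward.isDefEq.respectTransparency false
set_option backward.isDefEq.respectTransparency.types false
set_option maxHeartbeats 1000000

universe u

open CategoryTheory CategoryTheory.Limits MonoidalCategory CartesianMonoidalCategory MonObj AlgebraicGeometry TopologicalSpace

namespace Groth.Agent.AVEuler

open Groth.Agent

theorem sub_of_isZero {X : Scheme.{u}} {M : X.Modules} (h : IsZero M) (U : X.Opens) : Subsingleton Γ(M, U) :=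
  ⟨fun a b => by
    have e : (𝟙 M : M ⟶ M) = 0 := h.eq_of_src _ _
    have ha : a = 0 := by simpa using congrArg (fun φ => φ.app U a) e
    have hb : b = 0 := by simpa using congrArg (fun φ => φ.app U b) e
    rw [ha, hb]⟩

variable {k : Type u} [Field k] {A : Over (Spec (CommRingCat.of k))} [GrpObj A] [IsProper A.hom] [Smooth A.hom]
  [GeometricallyConnected A.hom]

/-- **Vanishing for ample line bundles over any field.** -/
theorem ample_vanishing_field {L : A.left.Modules} (hLa : CohB1.IsAmple L) :
    (∀ q, Subsingleton (Coh.HH A.left L (q + 1))) ∧ Nontrivial (Coh.HH A.left L 0) := by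
  let K := AlgebraicClosure k
  let t := Spec.map (CommRingCat.ofHom (algebraMap k K))
  let B : Over (Spec (CommRingCat.of K)) := Red.bc t A
  let π : B.left ⟶ A.left := Limits.pullback.fst A.hom t
  have sq : IsPullback π B.hom A.hom t := IsPullback.of_hasPullback _ _
  haveI : IsProper B.hom := MorphismProperty.of_isPullback (P := @IsProper) sq inferInstance
  haveI : Smooth B.hom := MorphismProperty.of_isPullback (P := @Smooth) sq inferInstance
  haveI : GeometricallyConnected B.hom := MorphismProperty.of_isPullback (P := @GeometricallyConnected) sq inferInstance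
  haveI : GeometricallyIntegral B.hom := AVDual.geometricallyIntegral_of_smooth B
  haveI : IsAffineHom t := inferInstance
  haveI : IsAffineHom π := MorphismProperty.of_isPullback (P := @IsAffineHom) sq.flip inferInstance
  letI : A.left.Over (Spec (CommRingCat.of k)) := ⟨A.hom⟩
  letI : B.left.Over (Spec (CommRingCat.of K)) := ⟨B.hom⟩
  haveI : IsProper (A.left ↘ Spec (CommRingCat.of k)) := ‹IsProper A.hom›
  haveI : IsProper (B.left ↘ Spec (CommRingCat.of K)) := ‹IsProper B.hom›
  haveI := CurveCohLib.isNoetherian_of_proper (k := k) (X := A.left)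
  haveI := CurveCohLib.isNoetherian_of_proper (k := K) (X := B.left)
  have hLa' : CohB1.IsAmple ((Scheme.Modules.pullback π).obj L) := NormX.isAmple_pullback_affine π hLa
  have hc : Coh.IsCoh L := AmpleVan.isCoh_invertible hLa.1
  have hrk := fun i => CurveBC.finrank_hh k K π sq L hc.1 i
  refine ⟨fun q => ?_, ?_⟩
  · refine VolLib.subsingleton_of_dimH (k := k) hc ?_
    rw [VolLib.dimH_def]
    haveI := subsingleton_HH_ample hLa' q
    exact (hrk (q + 1)).symm.trans Module.finrank_zero_of_subsingleton
  · rw [← not_subsingleton_iff_nontrivial]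
    intro h
    refine not_subsingleton_iff_nontrivial.2 (nontrivial_HH_zero_ample hLa') ?_
    refine VolLib.subsingleton_of_dimH (k := K) (AmpleVan.isCoh_invertible hLa'.1) ?_
    rw [VolLib.dimH_def]
    exact (hrk 0).trans Module.finrank_zero_of_subsingleton

/-- **Higher direct images of relatively ample line bundles on abelian schemes vanish.** -/
theorem rpush_relAmple {S : Scheme.{u}} [IsLocallyNoetherian S] (X : Over S) [GrpObj X] [IsProper X.hom]
    [Smooth X.hom] [GeometricallyConnected X.hom] [HasInjectiveResolutions X.left.Modules]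
    (L : X.left.Modules) (hL : PicF.IsInvertible L) (hample : RelAmple.IsRelAmple X.hom L) :
    (∀ i : ℕ, IsZero ((Coh.Rpush X.hom (i + 1)).obj L)) ∧ FlatMod.IsFinLocFree ((Coh.push X.hom).obj L) := by
  haveI : LocallyOfFinitePresentation X.hom := inferInstance
  have hq : Coh.IsQCoh L := ZeroSchX.isQCoh_inv hL
  have hlf : FlatMod.IsFinLocFree L := fun y =>
    let ⟨W, hy, he⟩ := InvEnd.isFinLocFreeOfRank_one hL y; ⟨W, 1, hy, he⟩
  have hfp := QCoh.isFP_of_isFinLocFree hlf
  have hfl := PerfLocus7.isFlatOver_of_isFinLocFree X.hom hlf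
  have hv : ∀ (i : ℕ) (s : S), CohPullLib.VanAt X.hom L (i + 1) s := fun i s => by
    refine CohPullLib.vanAt_of_subsingleton hq hfp hfl (i + 1) ?_
    let t := S.fromSpecResidueField s
    let B : Over (Spec (S.residueField s)) := Red.bc t X
    have sq : IsPullback (Limits.pullback.fst X.hom t) B.hom X.hom t := IsPullback.of_hasPullback _ _
    haveI : IsProper B.hom := MorphismProperty.of_isPullback (P := @IsProper) sq inferInstance
    haveI : Smooth B.hom := MorphismProperty.of_isPullback (P := @Smooth) sq inferInstance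
    haveI : GeometricallyConnected B.hom :=
      MorphismProperty.of_isPullback (P := @GeometricallyConnected) sq inferInstance
    have ha : CohB1.IsAmple ((Scheme.Modules.pullback (Limits.pullback.fst X.hom t)).obj L) :=
      (AmpleX.isRelAmple_iff_isAmple B.hom _).1 (S2332.result X.hom t L hample)
    exact (ample_vanishing_field (k := S.residueField s) (A := B) ha).1 i
  refine ⟨fun i => ?_, ?_⟩
  · have hz := CohPullLib.isZero_restrict_of_vanAt hq (i + 1) (U := (⊤ : S.Opens)) fun y _ => hv i y
    refine QCoh.isZero_of_cover (QCoh.isQCoh_Rpush X.hom hq (i + 1)) (fun U : S.affineOpens => U.1) (fun U => U.2)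
      (fun x => ?_) fun U => ⟨fun a b => ?_⟩
    · obtain ⟨_, ⟨W, hW, rfl⟩, hx, -⟩ := S.isBasis_affineOpens.exists_subset_of_mem_open (Set.mem_univ x) isOpen_univ
      exact ⟨⟨W, hW⟩, hx⟩
    let T : S.Opens := ⊤
    have hU : T.ι ''ᵁ (T.ι ⁻¹ᵁ U.1) = U.1 := by
      apply Opens.ext
      simp only [Scheme.Hom.coe_image, TopologicalSpace.Opens.map_coe]
      ext x
      exact ⟨fun ⟨y, hy, e⟩ => e ▸ hy, fun hx => ⟨⟨x, trivial⟩, hx, rfl⟩⟩
    haveI : Subsingleton Γ(((Coh.Rpush X.hom (i + 1)).obj L).restrict T.ι, T.ι ⁻¹ᵁ U.1) := sub_of_isZero hz _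
    haveI : Subsingleton Γ((Coh.Rpush X.hom (i + 1)).obj L, T.ι ''ᵁ (T.ι ⁻¹ᵁ U.1)) := this
    rw [hU] at this
    exact this.elim a b
  haveI : Limits.PreservesFiniteLimits (Scheme.Modules.pushforward X.hom) := QCoh.preservesFiniteLimits_push X.hom
  refine (ConsPropLib.isFinLocFree_iso ((Scheme.Modules.pushforward X.hom).rightDerivedZeroIsoSelf.app L)).1 ?_
  choose V hV P hsV _ _ _ _ hlfV using fun s => CohPullLib.exists_isFinLocFree_nhd hq hfp hfl
    (show s ∈ (⊤ : S.Opens) from trivial) (hv 0 s).exchAt_pred (fun p' hp' => absurd hp' (by omega))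
  exact ConsPropLib.isFinLocFree_of_cover (fun s => (V s).ι) (fun x => ⟨x, ⟨x, hsV x⟩, rfl⟩) hlfV

end Groth.Agent.AVEuler
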