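import Groth.Agent.H23.DblAlg
import Groth.Agent.H23.CoverPush
import Groth.Agent.ExtShX.ProjNat
import Groth.Agent.QCoh.AffineCohom
import Groth.Agent.PnCoh.Finite.HHLin
import Groth.Agent.InvX.Tensor
import Groth.Agent.VolLib.Basic
import Groth.Agent.VolLib.GenRank
import Groth.Agent.VolLib.UnifStep
import Groth.Agent.ZeroSchX.Basic
import Groth.Agent.PicClLib.Basic
import Groth.Agent.AmpleVan.Tw

/-!
# Cohomology injects along finite flat covers of degree invertible in the ground field
-/

noncomputable section

set_option autoImplicit false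
set_option linter.style.haveILetI false
set_option backward.isDefEq.respectTransparency false
set_option backward.isDefEq.respectTransparency.types false

universe u
open CategoryTheory CategoryTheory.Limits AlgebraicGeometry TopologicalSpace Opposite

namespace Groth.Agent.AVEuler

variable {X Y : Scheme.{u}}

/-- The direct image algebra, as a module, is the direct image of the structure module. -/
def directImageIso (f : X ⟶ Y) [QuasiCompact f] [QuasiSeparated f] :
    (RelSpec.QCAlg.directImage f).toModule ≅ (Scheme.Modules.pushforward f).obj (Coh.structureModule X) where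
  hom := ⟨letI := (RelSpec.QCAlg.directImage f).moduleSect
    PresheafOfModules.homMk
      { app := fun U => AddCommGrpCat.ofHom (AddMonoidHom.mk' (fun x => x) (fun _ _ => rfl))
        naturality := fun U V i => by ext; rfl }
      (fun U r s => rfl)⟩
  inv := ⟨letI := (RelSpec.QCAlg.directImage f).moduleSect
    PresheafOfModules.homMk
      { app := fun U => AddCommGrpCat.ofHom (AddMonoidHom.mk' (fun x => x) (fun _ _ => rfl))
        naturality := fun U V i => by ext; rfl }
      (fun U r s => rfl)⟩
  hom_inv_id := Scheme.Modules.hom_ext _ _ fun U => by ext; rfl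
  inv_hom_id := Scheme.Modules.hom_ext _ _ fun U => by ext; rfl

/-- The unit of a finite locally free cover of rank `d` followed by a suitable map is `d` times the identity. -/
theorem exists_unit_trace (f : X ⟶ Y) (d : ℕ) (hf : FinCov.IsCover f d) :
    ∃ (u : Coh.structureModule Y ⟶ (Scheme.Modules.pushforward f).obj (Coh.structureModule X))
      (τ : (Scheme.Modules.pushforward f).obj (Coh.structureModule X) ⟶ Coh.structureModule Y),
      u ≫ τ = d • 𝟙 (Coh.structureModule Y) := by
  obtain ⟨⟨_, _, _⟩, -⟩ := id hf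
  let e := directImageIso f
  have hA : FlatMod.IsFinLocFreeOfRank d (RelSpec.QCAlg.directImage f).toModule := fun y => by
    obtain ⟨U, hy, ⟨r⟩⟩ := H23.CoverPush.isFinLocFreeOfRank_push_of_isCover f hf y
    exact ⟨U, hy, ⟨(Scheme.Modules.restrictFunctor U.ι).mapIso e ≪≫ r⟩⟩
  obtain ⟨τ, hτ, -⟩ := H23.FinTrace.existsUnique_isTrace (H23.DblAlg.isFinLocFree_of_rank hA)
  exact ⟨FinCov.strMod _ ≫ e.hom, e.inv ≫ τ, by
    rw [Category.assoc, e.hom_inv_id_assoc, H23.DblAlg.strMod_comp_trace hA hτ]⟩

/-- **Cohomology vanishing descends along finite flat covers of invertible degree.** -/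
theorem subsingleton_HH_of_pullback (k : Type u) [Field k] [Y.Over (Spec (CommRingCat.of k))]
    [IsProper (Y ↘ Spec (CommRingCat.of k))]
    (f : X ⟶ Y) (d : ℕ) (hf : FinCov.IsCover f d) (hd : (d : k) ≠ 0)
    {L : Y.Modules} (hL : PicF.IsInvertible L) (q : ℕ)
    (h : Subsingleton (Coh.HH X ((Scheme.Modules.pullback f).obj L) q)) :
    Subsingleton (Coh.HH Y L q) := by
  obtain ⟨⟨_, _, _⟩, -⟩ := id hf
  let P := (Scheme.Modules.pushforward f).obj (Coh.structureModule X)
  haveI := ExtShX.isIso_projMod f (Coh.structureModule X) (N := L) (fun y => let ⟨W, hy, he⟩ := InvEnd.isFinLocFreeOfRank_one hL y; ⟨W, 1, hy, he⟩)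
  have hQ : Coh.IsQCoh ((DCoh.tensorBi.obj (Coh.structureModule X)).obj ((Scheme.Modules.pullback f).obj L)) :=
    ZeroSchX.isQCoh_inv (InvX.isInvertible_tensorMod InvX.isInvertible_structureModule (PicClLib.isInvertible_pullback f hL))
  obtain ⟨a⟩ := QCoh.HH_push_of_isAffineHom f hQ q
  obtain ⟨u, τ, hut⟩ := exists_unit_trace f d hf
  let T := AmpleVan.tw L
  haveI : T.Additive := by
    haveI := AmpleVan.isEquivalence_tw hL
    exact Functor.additive_of_preserves_binary_products _
  let ε : (DCoh.tensorBi.obj (Coh.structureModule Y)).obj L ≅ L :=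
    KFlatLib.structureTensorIso (X := Y) L
  let p := asIso (KFlatLib.projMod f (Coh.structureModule X) L)
  haveI h1 : Subsingleton (Coh.HH Y (T.obj P) q) := by
    haveI : Subsingleton (Coh.HH X ((DCoh.tensorBi.obj (Coh.structureModule X)).obj
        ((Scheme.Modules.pullback f).obj L)) q) :=
      QCoh.subsingleton_HH_of_iso (KFlatLib.structureTensorIso (X := X) _).symm q h
    exact QCoh.subsingleton_HH_of_iso p.symm q a.toEquiv.symm.subsingleton
  have key : ∀ x : Coh.HH Y L q, d • x = 0 := fun x => by
    have e : ε.inv ≫ T.map u ≫ T.map τ ≫ ε.hom = d • 𝟙 L := by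
      rw [← T.map_comp_assoc, hut, T.map_nsmul, T.map_id]
      simp
    let φ : (L ⟶ L) →+ Coh.HH Y L q := AddMonoidHom.mk' (fun g => PnCoh.Finite.mapLin k g q x)
      (fun g g' => VolLib.mapLin_add' k g g' q x)
    have h2 : φ (d • 𝟙 L) = d • x := by
      rw [map_nsmul]
      exact congrArg (d • ·) (VolLib.mapLin_id' k L q x)
    rw [← h2, ← e]
    show PnCoh.Finite.mapLin k _ q x = 0
    simp only [← VolLib.mapLin_comp' k]
    have hz : PnCoh.Finite.mapLin k (T.map u) q (PnCoh.Finite.mapLin k ε.inv q x) = 0 := @Subsingleton.elim _ h1 _ _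
    exact (congrArg (fun z => PnCoh.Finite.mapLin k ε.hom q (PnCoh.Finite.mapLin k (T.map τ) q z)) hz).trans (by simp)
  refine ⟨fun x y => ?_⟩
  have hz : ∀ x : Coh.HH Y L q, x = 0 := fun x => by
    have h0 := key x
    rw [← Nat.cast_smul_eq_nsmul k d x] at h0
    exact (smul_eq_zero.1 h0).resolve_left hd
  rw [hz x, hz y]

end Groth.Agent.AVEuler
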